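import Cfsg.Agent.H557.LrRho

/-!
helper392 (S4546, X2a): the (-1)-eigenspace of a sign element of the torus on the Lie algebra.

* `rho D F` : the action of `D.group F` on the Lie algebra;
* `finrank_conj` : conjugate elements;
* `finrank_sgn` : the number of roots on which the sign character is not trivial.
-/

set_option autoImplicit false
set_option linter.unusedSectionVars false

namespace Cfsg.Agent.H392.KKL

open CoxeterSystem
open Cfsg Cfsg.Lie Cfsg.Lie.ChevalleyDatum
open Cfsg.Agent.ChevalleyStructure Cfsg.Agent.ChevalleyStructure.Elts Cfsg.Agent.ChevalleyStructure.CoxeterGeom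
  Cfsg.Agent.ChevalleyStructure.RootVec Cfsg.Agent.ChevalleyStructure.RootVecTab
  Cfsg.Agent.ChevalleyStructure.CoxeterGeomTypes
open Cfsg.Agent.Tits.Roots Cfsg.Agent.Nodes.Reps Cfsg.Agent.Nodes.BNOf Cfsg.Agent.Nodes.RGDChev
  Cfsg.Agent.Nodes.Bruhat Cfsg.Agent.Nodes.RGDLib
open Cfsg.Agent.OddHalf.LongSL Cfsg.Agent.OddHalf.LongSL.Chev
open Cfsg.Agent.KFacts.RgdChevCoord (TT XX xc coe_xc coords)
open Cfsg.Agent.GenExc Cfsg.Agent.GenExc.Chev
open Cfsg.Agent.H557.LrSgn Cfsg.Agent.H557.LrTor Cfsg.Agent.H557.LrOrb Cfsg.Agent.H557.LrChev Cfsg.Agent.H557.LrRho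

/-- the action of `D.group F` on the Lie algebra -/
noncomputable def rho (D : ChevalleyDatum) (F : Type) [Field F] : ↥(D.group F) →* Module.End F (D.Idx → F) where
  toFun g := Matrix.toLin' ((g : GL D.Idx F) : Matrix D.Idx D.Idx F)
  map_one' := by
    show Matrix.toLin' (1 : Matrix D.Idx D.Idx F) = 1
    rw [Matrix.toLin'_one]
    rfl
  map_mul' g g' := by
    show Matrix.toLin' (((g : GL D.Idx F) : Matrix D.Idx D.Idx F) * ((g' : GL D.Idx F) : Matrix D.Idx D.Idx F)) = _
    rw [Matrix.toLin'_mul]
    rfl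

theorem rho_apply {D : ChevalleyDatum} {F : Type} [Field F] (g : ↥(D.group F)) :
    rho D F g = Matrix.toLin' ((g : GL D.Idx F) : Matrix D.Idx D.Idx F) := rfl

section Conj

variable {G : Type*} [Group G] {k : Type*} [Field k] {V : Type*} [AddCommGroup V] [Module k V]

/-- conjugate elements have `(-1)`-eigenspaces of the same dimension -/
theorem finrank_conj (ρ : G →* Module.End k V) (g t : G) :
    Module.finrank k ↥(LinearMap.ker (ρ (g * t * g⁻¹) + 1)) = Module.finrank k ↥(LinearMap.ker (ρ t + 1)) := by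
  have key : ∀ h s : G, ∀ v : V, (ρ s + 1) v = 0 → (ρ (h * s * h⁻¹) + 1) (ρ h v) = 0 := by
    intro h s v hv
    have h1 : ρ (h * s * h⁻¹) (ρ h v) = ρ h (ρ s v) := by
      rw [← Module.End.mul_apply, ← map_mul, ← Module.End.mul_apply, ← map_mul]
      congr 2
      group
    rw [LinearMap.add_apply, Module.End.one_apply] at hv ⊢
    rw [h1, ← map_add, hv, map_zero]
  have hinv : ∀ h : G, ∀ v : V, ρ h (ρ h⁻¹ v) = v := by
    intro h v
    rw [← Module.End.mul_apply, ← map_mul, mul_inv_cancel, map_one, Module.End.one_apply]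
  refine LinearEquiv.finrank_eq (LinearEquiv.ofLinearMap
    ((ρ g⁻¹).restrict (p := LinearMap.ker (ρ (g * t * g⁻¹) + 1)) (q := LinearMap.ker (ρ t + 1)) ?_)
    ((ρ g).restrict (p := LinearMap.ker (ρ t + 1)) (q := LinearMap.ker (ρ (g * t * g⁻¹) + 1)) ?_) ?_ ?_)
  · intro v hv
    have h1 := key g⁻¹ (g * t * g⁻¹) v hv
    have e : g⁻¹ * (g * t * g⁻¹) * g⁻¹⁻¹ = t := by group
    rwa [e] at h1
  · intro v hv
    exact key g t v hv
  · ext v
    have h1 := hinv g⁻¹ (v : V)
    rw [inv_inv] at h1
    exact h1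
  · ext v
    exact hinv g (v : V)

theorem finrank_of_isConj (ρ : G →* Module.End k V) {s t : G} (h : IsConj s t) :
    Module.finrank k ↥(LinearMap.ker (ρ t + 1)) = Module.finrank k ↥(LinearMap.ker (ρ s + 1)) := by
  obtain ⟨g, rfl⟩ := isConj_iff.1 h
  exact finrank_conj ρ g s

end Conj

section Diag

variable {D : ChevalleyDatum} {F : Type} [Field F]

/-- `g` is diagonal and acts on the root elements by its entries -/
def DG (D : ChevalleyDatum) {F : Type} [Field F] (g : Matrix D.Idx D.Idx F) : Prop :=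
  ∃ χ : ℕ → F, g = Matrix.diagonal (Sum.elim (fun _ => (1 : F)) fun s : Fin D.nroots => χ s) ∧
    ∀ s < D.nroots, ∀ a : F, g * D.x F s a = D.x F s (χ s * a) * g

theorem DG.one : DG D (1 : Matrix D.Idx D.Idx F) := by
  refine ⟨fun _ => 1, ?_, fun s _ a => by rw [one_mul, mul_one, one_mul]⟩
  rw [← Matrix.diagonal_one]
  congr 1
  funext i
  rcases i with i | i <;> rfl

theorem DG.mul {g h : Matrix D.Idx D.Idx F} (hg : DG D g) (hh : DG D h) : DG D (g * h) := by
  obtain ⟨χ, h1, h2⟩ := hg
  obtain ⟨ψ, h3, h4⟩ := hh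
  refine ⟨fun s => χ s * ψ s, ?_, fun s hs a => ?_⟩
  · rw [h1, h3, Matrix.diagonal_mul_diagonal]
    congr 1
    funext i
    rcases i with i | i <;> simp
  · rw [mul_assoc, h4 s hs, ← mul_assoc, h2 s hs, mul_assoc, mul_assoc]

theorem dg_of_mem (hD : InList D) {g : GL D.Idx F} (hg : g ∈ D.diagonalSubgroup F) :
    DG D (g : Matrix D.Idx D.Idx F) := by
  obtain ⟨c, hc, e⟩ := S1034.result D hD g hg
  rw [e]
  have key : ∀ L : List ℕ, (∀ i ∈ L, i < D.rank) →
      DG D (D.wordMat F (L.flatMap fun i => D.hWord (D.simple i) (c i))) := by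
    intro L
    induction L with
    | nil =>
      intro _
      rw [List.flatMap_nil, wordMat_nil]
      exact DG.one
    | cons i L ih =>
      intro hL
      have hi := hL i List.mem_cons_self
      rw [List.flatMap_cons, wordMat_append]
      refine DG.mul ⟨fun s => c i ^ D.cartan i s, ?_, fun s hs a => ?_⟩ (ih fun j hj => hL j (List.mem_cons_of_mem _ hj))
      · exact S1033.result D hD i hi (c i) (hc i hi)
      · exact S1032.result D hD i s hi hs (c i) (hc i hi) a
  exact key _ fun i hi => List.mem_range.1 hi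

/-- the kernel of a diagonal matrix -/
theorem finrank_ker_diag {ι : Type} [Fintype ι] [DecidableEq ι] (w : ι → F) :
    Module.finrank F ↥(LinearMap.ker (Matrix.toLin' (Matrix.diagonal w))) = Nat.card {i // w i = 0} := by
  classical
  have h1 := LinearMap.finrank_range_add_finrank_ker (Matrix.toLin' (Matrix.diagonal w))
  have h2 : Module.finrank F ↥(LinearMap.range (Matrix.toLin' (Matrix.diagonal w))) = Fintype.card {i // w i ≠ 0} := by
    have := Matrix.rank_diagonal w
    rw [Matrix.toLin'_apply']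
    exact this
  rw [h2, Module.finrank_fintype_fun_eq_card] at h1
  rw [Nat.card_eq_fintype_card]
  have h3 := Fintype.card_subtype_compl (fun i => w i = 0)
  have h4 : Fintype.card {i // w i = 0} ≤ Fintype.card ι := Fintype.card_subtype_le _
  have h5 : Fintype.card {i // w i ≠ 0} = Fintype.card {x // ¬ w x = 0} := rfl
  omega

end Diag

section Sgn

variable {D : ChevalleyDatum} {l : ℕ} {M : CoxeterMatrix (Fin l)} (hp : IsType D l M) {K : Type} [Field K]
  {W : Type*} [Group W] (cs : CoxeterSystem M W)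

include hp cs in
/-- **the `(-1)`-eigenspace of a sign element** -/
theorem finrank_sgn (h2 : (2 : K) ≠ 0) {ψ : (Fin l → ℤ) →+ ZMod 2} {t : ↥(D.group K)}
    (ht : SgnEl cs hp.isCartan (TT D K) (XX D l K) ψ t) :
    Module.finrank K ↥(LinearMap.ker (rho D K t + 1)) =
      ((Finset.range D.nroots).filter fun s => ψ (vec D l s) ≠ 0).card := by
  obtain ⟨χ, e, hχ⟩ := dg_of_mem hp.inList (F := K) (g := (t : GL D.Idx K)) ht.mem
  have hconj : ∀ s < D.nroots, ∀ a : K, ((t : GL D.Idx K)) * xG hp.inList s a = xG hp.inList s (χ s * a) * t := by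
    intro s hs a
    apply Units.ext
    rw [Units.val_mul, Units.val_mul, coe_xG, coe_xG]
    exact hχ s hs a
  have hmem : ∀ s < D.nroots, (⟨xG hp.inList s 1, xG_mem_group hp.inList _ 1⟩ : ↥(D.group K)) ∈
      XX D l K (vec D l s) := fun s hs => (mem_XX hp K hs).2 ⟨1, rfl⟩
  have hneg : (-1 : K) ≠ 1 := by
    intro h
    apply h2
    linear_combination -h
  have hχ' : ∀ s < D.nroots, (χ s + 1 = 0 ↔ ψ (vec D l s) ≠ 0) := by
    intro s hs
    by_cases h0 : ψ (vec D l s) = 0
    · have h1 := congrArg (fun g : ↥(D.group K) => (g : GL D.Idx K))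
        (ht.fix _ (isRoot_vec hp cs hs) h0 _ (hmem s hs))
      simp only [Subgroup.coe_mul] at h1
      rw [hconj s hs, mul_one] at h1
      have h3 := xG_injective hp.inList hs (mul_right_cancel h1)
      rw [h3]
      constructor
      · intro h4
        exact absurd (by linear_combination h4 : (2 : K) = 0) h2
      · intro h4
        exact absurd h0 h4
    · have h1 := congrArg (fun g : ↥(D.group K) => (g : GL D.Idx K))
        (ht.inv _ (isRoot_vec hp cs hs) h0 _ (hmem s hs))
      simp only [Subgroup.coe_mul, Subgroup.coe_inv] at h1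
      rw [hconj s hs, mul_one, mul_inv_cancel_right, xG_inv] at h1
      have h3 := xG_injective hp.inList hs h1
      rw [h3]
      simp [h0]
  have e1 : rho D K t + 1 = Matrix.toLin' (Matrix.diagonal (Sum.elim (fun _ : Fin D.rank => (2 : K))
      fun s : Fin D.nroots => χ s + 1)) := by
    rw [rho_apply, e]
    have : (1 : Module.End K (D.Idx → K)) = Matrix.toLin' (1 : Matrix D.Idx D.Idx K) := by
      rw [Matrix.toLin'_one]; rfl
    rw [this, ← map_add, ← Matrix.diagonal_one, Matrix.diagonal_add]
    congr 2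
    funext i
    rcases i with i | i
    · simp only [Sum.elim_inl]; norm_num
    · simp only [Sum.elim_inr]
  rw [e1, finrank_ker_diag]
  have e2 : Nat.card {i : D.Idx // Sum.elim (fun _ : Fin D.rank => (2 : K)) (fun s : Fin D.nroots => χ s + 1) i = 0} =
      Nat.card ↥((Finset.range D.nroots).filter fun s => ψ (vec D l s) ≠ 0) := by
    refine Nat.card_congr
      { toFun := fun i => match i with
          | ⟨Sum.inl _, h⟩ => (h2 h).elim
          | ⟨Sum.inr s, h⟩ => ⟨s, by
            rw [Finset.mem_filter, Finset.mem_range]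
            exact ⟨s.2, (hχ' s s.2).1 h⟩⟩
        invFun := fun s => ⟨Sum.inr ⟨s.1, Finset.mem_range.1 (Finset.mem_filter.1 s.2).1⟩, by
          have h3 := Finset.mem_filter.1 s.2
          exact (hχ' s.1 (Finset.mem_range.1 h3.1)).2 h3.2⟩
        left_inv := ?_
        right_inv := ?_ }
    · rintro ⟨i | i, h⟩
      · exact (h2 h).elim
      · rfl
    · rintro ⟨s, hs⟩
      rfl
  rw [e2, Nat.card_eq_fintype_card, Fintype.card_coe]

include hp cs in
/-- the `(-1)`-eigenspace of `zS S` -/
theorem finrank_zS (h2 : (2 : K) ≠ 0) (S : List (Fin l)) {n : ℕ}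
    (hn : ((List.range D.nroots).filter fun s => !evB D S s).length = n) :
    Module.finrank K ↥(LinearMap.ker (rho D K (zS hp K S) + 1)) = n := by
  rw [finrank_sgn hp cs h2 (sgnEl_zS hp K cs S), ← hn]
  have h1 : (Finset.range D.nroots).filter (fun s => csz (cartanOf D l) S (vec D l s) ≠ 0) =
      (Finset.range D.nroots).filter (fun s => (!evB D S s) = true) := by
    refine Finset.filter_congr fun s hs => ?_
    rw [Finset.mem_range] at hs
    rw [Ne, csz_vec hp S hs, ← evB_iff hp S hs]
    simp
  rw [h1]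
  show (List.filter (fun s => decide ((!evB D S s) = true)) (List.range D.nroots)).length = _
  simp only [Bool.decide_eq_true]

include hp cs in
/-- the `(-1)`-eigenspace of the sign element of the mask `2 ^ k` -/
theorem finrank_bits (h2 : (2 : K) ≠ 0) (k : Fin l) {t : ↥(D.group K)}
    (ht : SgnEl cs hp.isCartan (TT D K) (XX D l K) (bits l (2 ^ (k : ℕ))) t) {n : ℕ}
    (hn : ((List.range D.nroots).filter fun s => !evk D k s).length = n) :
    Module.finrank K ↥(LinearMap.ker (rho D K t + 1)) = n := by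
  rw [finrank_sgn hp cs h2 ht, ← hn]
  have h1 : (Finset.range D.nroots).filter (fun s => bits l (2 ^ (k : ℕ)) (vec D l s) ≠ 0) =
      (Finset.range D.nroots).filter (fun s => (!evk D k s) = true) := by
    refine Finset.filter_congr fun s hs => ?_
    rw [Finset.mem_range] at hs
    rw [Ne, ← evk_iff hp k hs]
    simp
  rw [h1]
  show (List.filter (fun s => decide ((!evk D k s) = true)) (List.range D.nroots)).length = _
  simp only [Bool.decide_eq_true]

end Sgn

end Cfsg.Agent.H392.KKL
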