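import Cfsg.Agent.H392.KKL.Chev
import Cfsg.Agent.H392.KKL.Dim
import Cfsg.Agent.H557.LrData
import Cfsg.Agent.Cit.TypeDet.KindsEF

/-!
helper392 (S4546, X2a): **the classical involutions of `G₂(q)`, `F₄(q)`, `E₆(q)`, `E₇(q)`, `E₈(q)`, `q` odd**.

* `x2a_G2`, ..., `x2a_E8` : `CI t (J t)` for `t` conjugate to `zS hp F [i0] = h_{i0}(-1)`, `i0` the long fundamental
  root `1` (`G₂`), `3` (`F₄`), `1` (`E₆`), `0` (`E₇`), `7` (`E₈`); `J` is equivariant;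
* `dim_G2`, ..., `dim_E8` : the dimension of the `(-1)`-eigenspace on the Lie algebra: 8, 28, 40, 64, 112.
-/

set_option autoImplicit false
set_option linter.unusedSectionVars false

namespace Cfsg.Agent.H392.KKL

open CoxeterSystem
open Cfsg Cfsg.Lie Cfsg.Lie.ChevalleyDatum
open Cfsg.Agent.ChevalleyStructure Cfsg.Agent.ChevalleyStructure.Elts Cfsg.Agent.ChevalleyStructure.CoxeterGeom
  Cfsg.Agent.ChevalleyStructure.RootVec Cfsg.Agent.ChevalleyStructure.RootVecTab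
  Cfsg.Agent.ChevalleyStructure.CoxeterGeomTypes
open Cfsg.Agent.Tits.Roots Cfsg.Agent.Nodes.Reps Cfsg.Agent.Nodes.BNOf Cfsg.Agent.Nodes.RGDChev
  Cfsg.Agent.Nodes.Bruhat Cfsg.Agent.Nodes.RGDLib
open Cfsg.Agent.OddHalf.LongSL Cfsg.Agent.OddHalf.LongSL.Chev
open Cfsg.Agent.KFacts.RgdChevCoord (TT XX xc coe_xc coords)
open Cfsg.Agent.GenExc Cfsg.Agent.GenExc.Chev
open Cfsg.Agent.H557.LrSgn Cfsg.Agent.H557.LrTor Cfsg.Agent.H557.LrOrb Cfsg.Agent.H557.LrChev Cfsg.Agent.H557.LrRho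
  Cfsg.Agent.H557.LrData
open Cfsg.Agent.Cit.TypeDet.KindsEF (isTypeG)
open Cfsg.Agent.H613.KKL (CI)

/-- the prime -/
theorem exists_prime (F : Type) [Field F] [Fintype F] : ∃ p : ℕ, p.Prime ∧ CharP F p := by
  obtain ⟨p, hpc⟩ := CharP.exists F
  exact ⟨p, (CharP.char_is_prime_or_zero F p).resolve_right (CharP.char_ne_zero_of_finite F p), hpc⟩

/-! ### `G₂` -/

set_option backward.isDefEq.respectTransparency false in
theorem tabG2 : (∀ r < 12, evB chevG2 (l := 2) [1] r = true → r = 2 ∨ r = 5 ∨ r = 6 ∨ r = 9) ∧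
    (∀ s < 12, vec chevG2 2 2 + vec chevG2 2 6 ≠ vec chevG2 2 s ∧ vec chevG2 2 2 + vec chevG2 2 5 ≠ vec chevG2 2 s ∧
      vec chevG2 2 9 + vec chevG2 2 6 ≠ vec chevG2 2 s ∧ vec chevG2 2 9 + vec chevG2 2 5 ≠ vec chevG2 2 s) ∧
    (∀ r < 12, ∀ s < 12, vec chevG2 2 2 + (3 : ℤ) • vec chevG2 2 r ≠ vec chevG2 2 s ∧
      vec chevG2 2 9 + (3 : ℤ) • vec chevG2 2 r ≠ vec chevG2 2 s) := by
  decide +kernel

set_option backward.isDefEq.respectTransparency false in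
theorem tabG2' : vec chevG2 2 6 = sr 1 ∧ vec chevG2 2 5 = -sr 1 ∧ vec chevG2 2 2 ≠ -vec chevG2 2 6 ∧
    vec chevG2 2 2 ≠ -vec chevG2 2 5 ∧ vec chevG2 2 9 ≠ -vec chevG2 2 6 ∧ vec chevG2 2 9 ≠ -vec chevG2 2 5 ∧
    vec chevG2 2 6 + (3 : ℤ) • vec chevG2 2 7 = vec chevG2 2 10 := by
  decide +kernel

section G2

variable {W : Type*} [Group W] (cs : CoxeterSystem CoxeterMatrix.G₂ W) {K : Type} [Field K]

include cs in
theorem comm_G2 : ∀ x ∈ Ev chevG2 2 [[1]], x = sr 1 ∨ x = -sr 1 ∨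
    ∀ u ∈ XX chevG2 2 K x, ∀ v ∈ AA (XX chevG2 2 K) (sr 1), u * v = v * u := by
  rintro _ ⟨r, hr, rfl, he⟩
  have h1 : evB chevG2 (l := 2) [1] r = true := (evB_iff isTypeG [1] hr).2 (he [1] List.mem_cons_self)
  have hroot : ∀ {s : ℕ}, s < 12 → IsRoot cs isTypeG.isCartan (vec chevG2 2 s) := fun hs => isRoot_vec isTypeG cs hs
  obtain ⟨hA, hB, -⟩ := tabG2
  obtain ⟨e6, e5, n1, n2, n3, n4, -⟩ := tabG2'
  have key : ∀ {a b : ℕ}, a < 12 → b < 12 → vec chevG2 2 a ≠ -vec chevG2 2 b →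
      (∀ s < 12, vec chevG2 2 a + vec chevG2 2 b ≠ vec chevG2 2 s) →
      ∀ u ∈ XX chevG2 2 K (vec chevG2 2 a), ∀ v ∈ XX chevG2 2 K (vec chevG2 2 b), u * v = v * u := by
    intro a b ha hb hab hn
    refine commOK isTypeG cs _ _ (hroot ha) (hroot hb) hab fun h3 => ?_
    obtain ⟨s, hs, e⟩ := (isRoot_iff isTypeG cs _).1 h3
    exact hn s hs e.symm
  have key2 : ∀ {a : ℕ}, a < 12 → vec chevG2 2 a ≠ -vec chevG2 2 6 → vec chevG2 2 a ≠ -vec chevG2 2 5 →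
      (∀ s < 12, vec chevG2 2 a + vec chevG2 2 6 ≠ vec chevG2 2 s) →
      (∀ s < 12, vec chevG2 2 a + vec chevG2 2 5 ≠ vec chevG2 2 s) →
      ∀ u ∈ XX chevG2 2 K (vec chevG2 2 a), ∀ v ∈ AA (XX chevG2 2 K) (sr 1), u * v = v * u := by
    intro a ha h3 h4 h5 h6 u hu
    have h7 : AA (XX chevG2 2 K) (sr 1) ≤ Subgroup.centralizer {u} := by
      refine sup_le ?_ ?_ <;> intro v hv <;> rw [Subgroup.mem_centralizer_iff] <;> intro y hy <;>
        rw [Set.mem_singleton_iff] at hy <;> rw [hy]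
      · rw [← e6] at hv
        exact key ha (by norm_num) h3 h5 u hu v hv
      · rw [← e5] at hv
        exact key ha (by norm_num) h4 h6 u hu v hv
    intro v hv
    exact Subgroup.mem_centralizer_iff.1 (h7 hv) u rfl
  rcases hA r hr h1 with rfl | rfl | rfl | rfl
  · exact Or.inr (Or.inr (key2 (by norm_num) n1 n2 (fun s hs => (hB s hs).1) fun s hs => (hB s hs).2.1))
  · exact Or.inr (Or.inl e5)
  · exact Or.inl e6
  · exact Or.inr (Or.inr (key2 (by norm_num) n3 n4 (fun s hs => (hB s hs).2.2.1) fun s hs => (hB s hs).2.2.2))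

theorem stab_G2 [Finite K] (p : ℕ) [Fact p.Prime] [CharP K p] (h2 : (2 : K) ≠ 0) (w : W) (k : ↥(chevG2.group K))
    (hk : Rp cs (rgd (K := K) isTypeG cs p).nsys w k)
    (hkS : k ∈ Subgroup.centralizer {y | ∃ S ∈ [[(1 : Fin 2)]], y = zS isTypeG K S}) :
    rep cs isTypeG.isCartan w (sr 1) = sr 1 ∨ rep cs isTypeG.isCartan w (sr 1) = -sr 1 := by
  have hW : Finite W := finite_W isTypeG cs
  have hE := Chev.evenSet (K := K) isTypeG cs h2 [[(1 : Fin 2)]]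
  obtain ⟨hA, -, hC⟩ := tabG2
  obtain ⟨e6, e5, -, -, -, -, e10⟩ := tabG2'
  have hroot : ∀ {s : ℕ}, s < 12 → IsRoot cs isTypeG.isCartan (vec chevG2 2 s) := fun hs => isRoot_vec isTypeG cs hs
  have h1 : (sr 1 : Fin 2 → ℤ) ∈ Ev chevG2 2 [[1]] := by
    rw [← e6, mem_Ev_vec isTypeG (by decide)]
    intro S hS
    rw [List.mem_singleton] at hS
    rw [hS, ← evB_iff isTypeG [1] (r := 6) (by decide)]
    decide +kernel
  obtain ⟨r, hr, e, he⟩ := hE.act (rgd (K := K) isTypeG cs p) hk hkS h1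
  have h3 : evB chevG2 (l := 2) [1] r = true := (evB_iff isTypeG [1] hr).2 (he [1] List.mem_cons_self)
  -- `x + 3 c` is a root
  have h4 : ∃ s < 12, ∃ s' < 12, vec chevG2 2 r + (3 : ℤ) • vec chevG2 2 s = vec chevG2 2 s' := by
    obtain ⟨s, hs, es⟩ := (isRoot_iff isTypeG cs _).1 ((hroot (s := 7) (by norm_num)).act w)
    obtain ⟨s', hs', es'⟩ := (isRoot_iff isTypeG cs _).1 ((hroot (s := 10) (by norm_num)).act w)
    refine ⟨s, hs, s', hs', ?_⟩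
    rw [e, es, es', ← e6, ← e10, map_add, map_smul]
  obtain ⟨s, hs, s', hs', h5⟩ := h4
  rcases hA r hr h3 with rfl | rfl | rfl | rfl
  · exact absurd h5 (hC s hs s' hs').1
  · right; rw [← e, e5]
  · left; rw [← e, e6]
  · exact absurd h5 (hC s hs s' hs').2

end G2

section

variable {F : Type} [Field F] [Fintype F]

theorem ci_G2 (h2 : (2 : F) ≠ 0) : CI (zS isTypeG F [1]) (phi isTypeG F 1).range := by
  obtain ⟨p, hpp, hpc⟩ := exists_prime F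
  have : Fact p.Prime := ⟨hpp⟩
  have e0 : zS isTypeG F [1] = phi isTypeG F 1 (-1) := by rw [zS_cons, zS_nil, mul_one]
  have h1 : phi isTypeG F 1 (-1) ≠ 1 := by
    rw [← e0]
    exact zS_ne_one isTypeG h2 ⟨0, by decide, by decide +kernel⟩
  have hQ : Function.Injective (phi isTypeG F 1) := inj_of_neg h2 h1
  obtain ⟨cs, -⟩ : ∃ cs, cs = (CoxeterMatrix.G₂).toCoxeterSystem := ⟨_, rfl⟩
  rw [e0]
  refine ci_of_hom h2 (phi isTypeG F 1) h1 fun c hc => ?_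
  rw [← e0] at hc
  have hk₀ : Rp cs (rgd (K := F) isTypeG cs p).nsys 1 1 := rp_one
  have ha : rep cs isTypeG.isCartan 1 (sr 1) = sr 1 := by rw [map_one, Module.End.one_apply]
  have hc' : c ∈ Subgroup.centralizer {y | ∃ T ∈ [[(1 : Fin 2)]], y = zS isTypeG F T} := by
    rw [set_eq, Subgroup.mem_centralizer_iff]
    intro y hy
    rw [Set.mem_singleton_iff] at hy
    rw [hy]
    exact hc.symm
  have h3 := act_cent isTypeG cs p hQ h2 hk₀ [[(1 : Fin 2)]] (by rw [ha]; exact comm_G2 cs)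
    (by rw [ha]; exact stab_G2 cs p h2) hc'
  rwa [inv_one, one_mul, mul_one] at h3

theorem ci_F4 (h2 : (2 : F) ≠ 0) : CI (zS isType_F4 F [3]) (phi isType_F4 F 3).range := by
  obtain ⟨p, hpp, hpc⟩ := exists_prime F
  have : Fact p.Prime := ⟨hpp⟩
  exact ci_rho isType_F4 (CoxeterMatrix.F₄).toCoxeterSystem rhoF4 p (center_eq_bot (S1054.result _ (by simp))) h2
    (by decide +kernel)

theorem ci_E6 (h2 : (2 : F) ≠ 0) : CI (zS isType_E6 F [1]) (phi isType_E6 F 1).range := by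
  obtain ⟨p, hpp, hpc⟩ := exists_prime F
  have : Fact p.Prime := ⟨hpp⟩
  exact ci_rho isType_E6 (CoxeterMatrix.E₆).toCoxeterSystem rhoE6 p (center_eq_bot (S1054.result _ (by simp))) h2
    (by decide +kernel)

theorem ci_E7 (h2 : (2 : F) ≠ 0) : CI (zS isType_E7 F [0]) (phi isType_E7 F 0).range := by
  obtain ⟨p, hpp, hpc⟩ := exists_prime F
  have : Fact p.Prime := ⟨hpp⟩
  exact ci_rho isType_E7 (CoxeterMatrix.E₇).toCoxeterSystem rhoE7 p (center_eq_bot (S1054.result _ (by simp))) h2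
    (by decide +kernel)

theorem ci_E8 (h2 : (2 : F) ≠ 0) : CI (zS isType_E8 F [7]) (phi isType_E8 F 7).range := by
  obtain ⟨p, hpp, hpc⟩ := exists_prime F
  have : Fact p.Prime := ⟨hpp⟩
  exact ci_rho isType_E8 (CoxeterMatrix.E₈).toCoxeterSystem rhoE8 p (center_eq_bot (S1054.result _ (by simp))) h2
    (by decide +kernel)

/-- **`G₂(q)`** -/
theorem x2a_G2 (h2 : (2 : F) ≠ 0) : ∃ J : ↥(chevG2.group F) → Subgroup ↥(chevG2.group F),
    J (zS isTypeG F [1]) = (phi isTypeG F 1).range ∧ (∀ t, IsConj (zS isTypeG F [1]) t → CI t (J t)) ∧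
    ∀ y t g, y * g * y⁻¹ ∈ J (y * t * y⁻¹) ↔ g ∈ J t := exists_J (ci_G2 h2)

/-- **`F₄(q)`** -/
theorem x2a_F4 (h2 : (2 : F) ≠ 0) : ∃ J : ↥(chevF4.group F) → Subgroup ↥(chevF4.group F),
    J (zS isType_F4 F [3]) = (phi isType_F4 F 3).range ∧ (∀ t, IsConj (zS isType_F4 F [3]) t → CI t (J t)) ∧
    ∀ y t g, y * g * y⁻¹ ∈ J (y * t * y⁻¹) ↔ g ∈ J t := exists_J (ci_F4 h2)

/-- **`E₆(q)`** -/
theorem x2a_E6 (h2 : (2 : F) ≠ 0) : ∃ J : ↥(chevE6.group F) → Subgroup ↥(chevE6.group F),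
    J (zS isType_E6 F [1]) = (phi isType_E6 F 1).range ∧ (∀ t, IsConj (zS isType_E6 F [1]) t → CI t (J t)) ∧
    ∀ y t g, y * g * y⁻¹ ∈ J (y * t * y⁻¹) ↔ g ∈ J t := exists_J (ci_E6 h2)

/-- **`E₇(q)`** -/
theorem x2a_E7 (h2 : (2 : F) ≠ 0) : ∃ J : ↥(chevE7.group F) → Subgroup ↥(chevE7.group F),
    J (zS isType_E7 F [0]) = (phi isType_E7 F 0).range ∧ (∀ t, IsConj (zS isType_E7 F [0]) t → CI t (J t)) ∧
    ∀ y t g, y * g * y⁻¹ ∈ J (y * t * y⁻¹) ↔ g ∈ J t := exists_J (ci_E7 h2)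

/-- **`E₈(q)`** -/
theorem x2a_E8 (h2 : (2 : F) ≠ 0) : ∃ J : ↥(chevE8.group F) → Subgroup ↥(chevE8.group F),
    J (zS isType_E8 F [7]) = (phi isType_E8 F 7).range ∧ (∀ t, IsConj (zS isType_E8 F [7]) t → CI t (J t)) ∧
    ∀ y t g, y * g * y⁻¹ ∈ J (y * t * y⁻¹) ↔ g ∈ J t := exists_J (ci_E8 h2)

/-! ### dimensions -/

theorem dim_G2 (h2 : (2 : F) ≠ 0) {t : ↥(chevG2.group F)} (ht : IsConj (zS isTypeG F [1]) t) :
    Module.finrank F ↥(LinearMap.ker (rho chevG2 F t + 1)) = 8 := by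
  rw [finrank_of_isConj (rho chevG2 F) ht]
  exact finrank_zS isTypeG (CoxeterMatrix.G₂).toCoxeterSystem h2 [1] (by decide +kernel)

theorem dim_F4 (h2 : (2 : F) ≠ 0) {t : ↥(chevF4.group F)} (ht : IsConj (zS isType_F4 F [3]) t) :
    Module.finrank F ↥(LinearMap.ker (rho chevF4 F t + 1)) = 28 := by
  rw [finrank_of_isConj (rho chevF4 F) ht]
  exact finrank_zS isType_F4 (CoxeterMatrix.F₄).toCoxeterSystem h2 [3] (by decide +kernel)

theorem dim_E6 (h2 : (2 : F) ≠ 0) {t : ↥(chevE6.group F)} (ht : IsConj (zS isType_E6 F [1]) t) :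
    Module.finrank F ↥(LinearMap.ker (rho chevE6 F t + 1)) = 40 := by
  rw [finrank_of_isConj (rho chevE6 F) ht]
  exact finrank_zS isType_E6 (CoxeterMatrix.E₆).toCoxeterSystem h2 [1] (by decide +kernel)

theorem dim_E7 (h2 : (2 : F) ≠ 0) {t : ↥(chevE7.group F)} (ht : IsConj (zS isType_E7 F [0]) t) :
    Module.finrank F ↥(LinearMap.ker (rho chevE7 F t + 1)) = 64 := by
  rw [finrank_of_isConj (rho chevE7 F) ht]
  exact finrank_zS isType_E7 (CoxeterMatrix.E₇).toCoxeterSystem h2 [0] (by decide +kernel)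

theorem dim_E8 (h2 : (2 : F) ≠ 0) {t : ↥(chevE8.group F)} (ht : IsConj (zS isType_E8 F [7]) t) :
    Module.finrank F ↥(LinearMap.ker (rho chevE8 F t + 1)) = 112 := by
  rw [finrank_of_isConj (rho chevE8 F) ht]
  exact finrank_zS isType_E8 (CoxeterMatrix.E₈).toCoxeterSystem h2 [7] (by decide +kernel)

end

end Cfsg.Agent.H392.KKL
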