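import Cfsg.Agent.H613.KKL.CI
import Cfsg.Agent.H557.LrSL

/-!
helper392 (S4546, X2a): classical involutions, generic part.

* `cg g` : conjugation by `g ∈ GL₂(F)` on `SL₂(F)`;
* `ci_of_hom` : `Q : SL₂(F) → K`, `C(Q (-1))` acts on the image through `GL₂(F)`, so that `CI (Q (-1)) Q.range`;
* `scal_act` : elements acting on `Q (up r)`, `Q (lo r)` by scalars;
* `ci_conj`, `exists_J` : the equivariant function `J`.
-/

set_option autoImplicit false

namespace Cfsg.Agent.H392.KKL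

open Cfsg.Agent.H613.KKL (CI)
open Cfsg.Agent.ChevalleyStructure.SL2Hom (up lo mem_closure_SL2)
open scoped MatrixGroups

section GL2

variable {F : Type*} [Field F]

/-- conjugation by `g ∈ GL₂(F)` on `SL₂(F)` -/
def cg (g : GL (Fin 2) F) : SL(2, F) →* SL(2, F) where
  toFun s := ⟨(g : Matrix (Fin 2) (Fin 2) F) * s.1 * ((g⁻¹ : GL (Fin 2) F) : Matrix (Fin 2) (Fin 2) F), by
    have h1 : (g : Matrix (Fin 2) (Fin 2) F) * ((g⁻¹ : GL (Fin 2) F) : Matrix (Fin 2) (Fin 2) F) = 1 := g.mul_inv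
    rw [Matrix.det_mul, Matrix.det_mul, s.2, mul_one, ← Matrix.det_mul, h1, Matrix.det_one]⟩
  map_one' := by
    apply Subtype.ext
    show (g : Matrix (Fin 2) (Fin 2) F) * 1 * ((g⁻¹ : GL (Fin 2) F) : Matrix (Fin 2) (Fin 2) F) = 1
    rw [mul_one]
    exact g.mul_inv
  map_mul' s s' := by
    apply Subtype.ext
    show (g : Matrix (Fin 2) (Fin 2) F) * (s.1 * s'.1) * ((g⁻¹ : GL (Fin 2) F) : Matrix (Fin 2) (Fin 2) F) =
      (g : Matrix (Fin 2) (Fin 2) F) * s.1 * ((g⁻¹ : GL (Fin 2) F) : Matrix (Fin 2) (Fin 2) F) *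
      ((g : Matrix (Fin 2) (Fin 2) F) * s'.1 * ((g⁻¹ : GL (Fin 2) F) : Matrix (Fin 2) (Fin 2) F))
    have h1 : ((g⁻¹ : GL (Fin 2) F) : Matrix (Fin 2) (Fin 2) F) * (g : Matrix (Fin 2) (Fin 2) F) = 1 := g.inv_mul
    calc _ = (g : Matrix (Fin 2) (Fin 2) F) * s.1 * (1 : Matrix (Fin 2) (Fin 2) F) * s'.1 *
          ((g⁻¹ : GL (Fin 2) F) : Matrix (Fin 2) (Fin 2) F) := by rw [mul_one]; simp only [mul_assoc]
      _ = _ := by rw [← h1]; simp only [mul_assoc]

theorem cg_coe (g : GL (Fin 2) F) (s : SL(2, F)) : (cg g s).1 =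
    (g : Matrix (Fin 2) (Fin 2) F) * s.1 * ((g⁻¹ : GL (Fin 2) F) : Matrix (Fin 2) (Fin 2) F) := rfl

/-- `cg g s = s'` if `g s = s' g` -/
theorem cg_eq {g : GL (Fin 2) F} {s s' : SL(2, F)}
    (h : (g : Matrix (Fin 2) (Fin 2) F) * s.1 = s'.1 * (g : Matrix (Fin 2) (Fin 2) F)) : cg g s = s' := by
  apply Subtype.ext
  have h1 : (g : Matrix (Fin 2) (Fin 2) F) * ((g⁻¹ : GL (Fin 2) F) : Matrix (Fin 2) (Fin 2) F) = 1 := g.mul_inv
  rw [cg_coe, h, mul_assoc, h1, mul_one]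

theorem cg_eq_iff {g : GL (Fin 2) F} {s s' : SL(2, F)} : cg g s = s' ↔
    (g : Matrix (Fin 2) (Fin 2) F) * s.1 = s'.1 * (g : Matrix (Fin 2) (Fin 2) F) := by
  refine ⟨?_, cg_eq⟩
  rintro rfl
  have h1 : ((g⁻¹ : GL (Fin 2) F) : Matrix (Fin 2) (Fin 2) F) * (g : Matrix (Fin 2) (Fin 2) F) = 1 := g.inv_mul
  rw [cg_coe, mul_assoc, mul_assoc, h1, mul_one]

theorem cg_mul (g g' : GL (Fin 2) F) (s : SL(2, F)) : cg (g * g') s = cg g (cg g' s) := by
  refine cg_eq ?_
  have h1 := cg_eq_iff.1 (rfl : cg g' s = cg g' s)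
  have h2 := cg_eq_iff.1 (rfl : cg g (cg g' s) = cg g (cg g' s))
  show (g : Matrix (Fin 2) (Fin 2) F) * (g' : Matrix (Fin 2) (Fin 2) F) * s.1 = _ *
    ((g : Matrix (Fin 2) (Fin 2) F) * (g' : Matrix (Fin 2) (Fin 2) F))
  rw [mul_assoc, h1, ← mul_assoc, h2, mul_assoc]

theorem cg_one (s : SL(2, F)) : cg (1 : GL (Fin 2) F) s = s := cg_eq (by simp)

theorem cg_inv (g : GL (Fin 2) F) {s s' : SL(2, F)} (h : cg g s = s') : cg g⁻¹ s' = s := by
  rw [← h, ← cg_mul, inv_mul_cancel, cg_one]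

/-- inner -/
theorem cg_toGL (u s : SL(2, F)) : cg (Matrix.SpecialLinearGroup.toGL u) s = u * s * u⁻¹ := by
  refine cg_eq ?_
  have h1 : u * s = u * s * u⁻¹ * u := by group
  exact congrArg Subtype.val h1

theorem cg_trivial {g : GL (Fin 2) F} : (∀ s, cg g s = s) ↔ g ∈ Subgroup.center (GL (Fin 2) F) := by
  constructor
  · intro h
    have h1 := cg_eq_iff.1 (h (up 1))
    have h2 := cg_eq_iff.1 (h (lo 1))
    have a1 := congrFun (congrFun h1 0) 0
    have a2 := congrFun (congrFun h1 0) 1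
    have a3 := congrFun (congrFun h2 0) 0
    simp only [up, lo, Matrix.mul_apply, Fin.sum_univ_two, Matrix.of_apply, Matrix.cons_val', Matrix.cons_val_zero,
      Matrix.cons_val_one, Matrix.cons_val_fin_one, mul_one, mul_zero, one_mul, zero_mul, add_zero]
      at a1 a2 a3
    rw [Subgroup.mem_center_iff]
    intro x
    apply Units.ext
    show (x : Matrix (Fin 2) (Fin 2) F) * (g : Matrix (Fin 2) (Fin 2) F) =
      (g : Matrix (Fin 2) (Fin 2) F) * (x : Matrix (Fin 2) (Fin 2) F)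
    have e : (g : Matrix (Fin 2) (Fin 2) F) = ((g : Matrix (Fin 2) (Fin 2) F) 0 0) • (1 : Matrix (Fin 2) (Fin 2) F) := by
      ext i j
      fin_cases i <;> fin_cases j <;> simp
      · linear_combination a3
      · linear_combination -a1
      · linear_combination -a2 + a3 - a3
    rw [e, mul_smul_comm, smul_mul_assoc, mul_one, one_mul]
  · intro h s
    refine cg_eq ?_
    have h1 := Subgroup.mem_center_iff.1 h (Matrix.SpecialLinearGroup.toGL s)
    exact (congrArg Units.val h1).symm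

/-- diagonal matrices -/
def dg (a : F) (ha : a ≠ 0) : GL (Fin 2) F :=
  ⟨!![a, 0; 0, 1], !![a⁻¹, 0; 0, 1], by
    ext i j; fin_cases i <;> fin_cases j <;> simp [ha], by
    ext i j; fin_cases i <;> fin_cases j <;> simp [ha]⟩

theorem cg_dg_up (a : F) (ha : a ≠ 0) (r : F) : cg (dg a ha) (up r) = up (a * r) := by
  refine cg_eq ?_
  show !![a, 0; 0, 1] * !![1, r; 0, 1] = !![1, a * r; 0, 1] * !![a, 0; 0, 1]
  ext i j; fin_cases i <;> fin_cases j <;> simp

theorem cg_dg_lo (a b : F) (ha : a ≠ 0) (hab : a * b = 1) (r : F) : cg (dg a ha) (lo r) = lo (b * r) := by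
  refine cg_eq ?_
  show !![a, 0; 0, 1] * !![1, 0; r, 1] = !![1, 0; b * r, 1] * !![a, 0; 0, 1]
  ext i j; fin_cases i <;> fin_cases j <;> simp
  linear_combination (-r) * hab

end GL2

section Hom

variable {K : Type*} [Group K] {F : Type*} [Field F] (Q : SL(2, F) →* K)

/-- `c` acts on the image of `Q` as an element of `GL₂(F)` -/
def Act (c : K) : Prop := ∃ g : GL (Fin 2) F, ∀ s, c * Q s * c⁻¹ = Q (cg g s)

theorem act_one : Act Q 1 := ⟨1, fun s => by rw [cg_one]; simp⟩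

theorem Act.mul {c c' : K} (h : Act Q c) (h' : Act Q c') : Act Q (c * c') := by
  obtain ⟨g, hg⟩ := h
  obtain ⟨g', hg'⟩ := h'
  refine ⟨g * g', fun s => ?_⟩
  rw [cg_mul, ← hg, ← hg']
  group

theorem Act.inv {c : K} (h : Act Q c) : Act Q c⁻¹ := by
  obtain ⟨g, hg⟩ := h
  refine ⟨g⁻¹, fun s => ?_⟩
  have h1 := hg (cg g⁻¹ s)
  rw [← cg_mul, mul_inv_cancel, cg_one] at h1
  rw [← h1]
  group

/-- the elements acting through `GL₂(F)` -/
def actG : Subgroup K where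
  carrier := {c | Act Q c}
  one_mem' := act_one Q
  mul_mem' := Act.mul Q
  inv_mem' := Act.inv Q

theorem mem_actG {c : K} : c ∈ actG Q ↔ Act Q c := Iff.rfl

theorem act_of_comm {c : K} (h : ∀ s, c * Q s = Q s * c) : Act Q c :=
  ⟨1, fun s => by rw [cg_one, h, mul_inv_cancel_right]⟩

theorem act_range (s : SL(2, F)) : Act Q (Q s) :=
  ⟨Matrix.SpecialLinearGroup.toGL s, fun r => by rw [cg_toGL, map_mul, map_mul, map_inv]⟩

theorem range_le_actG : Q.range ≤ actG Q := by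
  rintro _ ⟨s, rfl⟩
  exact act_range Q s

variable {Q}

/-- two homomorphisms agreeing on `up`, `lo` -/
theorem hom_ext {f g : SL(2, F) →* K} (hu : ∀ r, f (up r) = g (up r)) (hl : ∀ r, f (lo r) = g (lo r)) : f = g := by
  refine MonoidHom.eq_of_eqOn_dense (s := Set.range (up (F := F)) ∪ Set.range (lo (F := F))) ?_ ?_
  · rw [eq_top_iff]
    exact fun x _ => mem_closure_SL2 x
  · rintro _ (⟨r, rfl⟩ | ⟨r, rfl⟩)
    · exact hu r
    · exact hl r

theorem act_of_gens {c : K} (g : GL (Fin 2) F) (hu : ∀ r, c * Q (up r) * c⁻¹ = Q (cg g (up r)))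
    (hl : ∀ r, c * Q (lo r) * c⁻¹ = Q (cg g (lo r))) : Act Q c := by
  have h1 : (MulAut.conj c).toMonoidHom.comp Q = Q.comp (cg g) := hom_ext hu hl
  exact ⟨g, fun s => DFunLike.congr_fun h1 s⟩

/-- `c` acts by scalars on `Q (up r)` and `Q (lo r)` -/
theorem scal_act (hQ : Function.Injective Q) {c : K} {a b : F} (ha : a ≠ 0) (hb : b ≠ 0)
    (hu : ∀ r, c * Q (up r) * c⁻¹ = Q (up (a * r))) (hl : ∀ r, c * Q (lo r) * c⁻¹ = Q (lo (b * r))) : Act Q c := by
  have hab : a * b = 1 := by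
    have e : (up (1 : F)) * lo (-1) * up 1 * up 1 = lo (-1) * (up 1 * lo (-1) * up 1) := by
      apply Subtype.ext
      show !![(1 : F), 1; 0, 1] * !![1, 0; -1, 1] * !![1, 1; 0, 1] * !![1, 1; 0, 1] =
        !![1, 0; -1, 1] * (!![1, 1; 0, 1] * !![1, 0; -1, 1] * !![1, 1; 0, 1])
      ext i j; fin_cases i <;> fin_cases j <;> simp
    have h1 : Q (up (a * 1) * lo (b * -1) * up (a * 1) * up (a * 1)) =
        Q (lo (b * -1) * (up (a * 1) * lo (b * -1) * up (a * 1))) := by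
      simp only [map_mul, ← hu, ← hl]
      have h2 := congrArg (fun x => c * Q x * c⁻¹) e
      simp only [map_mul] at h2
      calc _ = c * (Q (up 1) * Q (lo (-1)) * Q (up 1) * Q (up 1)) * c⁻¹ := by group
        _ = _ := by rw [h2]; group
    have h2 := hQ h1
    have h3 : !![(1 : F), a * 1; 0, 1] * !![1, 0; b * -1, 1] * !![1, a * 1; 0, 1] * !![1, a * 1; 0, 1] =
        !![1, 0; b * -1, 1] * (!![1, a * 1; 0, 1] * !![1, 0; b * -1, 1] * !![1, a * 1; 0, 1]) :=
      congrArg Subtype.val h2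
    have h4 := congrFun (congrFun h3 1) 0
    simp only [Matrix.mul_apply, Fin.sum_univ_two, Matrix.of_apply, Matrix.cons_val', Matrix.cons_val_zero,
      Matrix.cons_val_one, Matrix.cons_val_fin_one, mul_one, mul_zero, one_mul, zero_mul, add_zero, zero_add] at h4
    have h5 : b * (a * b - 1) = 0 := by linear_combination -h4
    rcases mul_eq_zero.1 h5 with h6 | h6
    · exact absurd h6 hb
    · linear_combination h6
  refine act_of_gens (dg a ha) (fun r => ?_) fun r => ?_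
  · rw [hu, cg_dg_up]
  · rw [hl, cg_dg_lo a b ha hab]

end Hom

section CIHom

variable {K : Type*} [Group K] {F : Type} [Field F] [Fintype F]

theorem odd_card (h2 : (2 : F) ≠ 0) : Odd (Fintype.card F) := by
  rw [Nat.odd_iff]
  refine FiniteField.odd_card_of_char_ne_two ?_
  intro h
  apply h2
  have := ringChar.Nat.cast_ringChar (R := F)
  rw [h] at this
  exact_mod_cast this

/-- `Q` is injective if `Q (-1) ≠ 1` -/
theorem inj_of_neg (h2 : (2 : F) ≠ 0) {Q : SL(2, F) →* K} (h1 : Q (-1) ≠ 1) : Function.Injective Q := by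
  rw [← MonoidHom.ker_eq_bot_iff, Subgroup.eq_bot_iff_forall]
  intro x hx
  rcases (H557.LrSL.sl_facts (odd_card h2) h2).2 Q.ker inferInstance with h | ⟨h, -⟩
  · rcases h x hx with h3 | h3
    · exact h3
    · rw [h3] at hx
      exact absurd hx h1
  · exact absurd h h1

theorem exists_sq : ∃ a b : F, a * a + b * b = -1 := by
  obtain ⟨p, hp⟩ := CharP.exists F
  have hp0 : p ≠ 0 := CharP.char_ne_zero_of_finite F p
  have : NeZero p := ⟨hp0⟩
  obtain ⟨a, b, h⟩ := CharP.sq_add_sq F p (-1)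
  refine ⟨a, b, ?_⟩
  rw [← pow_two, ← pow_two, h]
  push_cast
  ring

omit [Fintype F] in
theorem exists_q8 {a b : F} (hab : a * a + b * b = -1) : ∃ i j : SL(2, F), i * i = -1 ∧ j * j = -1 ∧
    i * j = -1 * (j * i) := by
  refine ⟨⟨!![0, 1; -1, 0], by simp [Matrix.det_fin_two]⟩,
    ⟨!![a, b; b, -a], by rw [Matrix.det_fin_two_of]; linear_combination -hab⟩, ?_, ?_, ?_⟩
  · apply Subtype.ext
    show !![(0 : F), 1; -1, 0] * !![0, 1; -1, 0] = -1
    ext i j; fin_cases i <;> fin_cases j <;> simp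
  · apply Subtype.ext
    show !![a, b; b, -a] * !![a, b; b, -a] = -1
    ext i j; fin_cases i <;> fin_cases j <;> simp
    · linear_combination hab
    · ring
    · ring
    · linear_combination hab
  · apply Subtype.ext
    show !![(0 : F), 1; -1, 0] * !![a, b; b, -a] = -1 * (!![a, b; b, -a] * !![0, 1; -1, 0])
    ext i j; fin_cases i <;> fin_cases j <;> simp

/-- **the image of `SL₂(F)`** -/
theorem ci_of_hom (h2 : (2 : F) ≠ 0) (Q : SL(2, F) →* K) (h1 : Q (-1) ≠ 1)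
    (hC : ∀ c : K, c * Q (-1) = Q (-1) * c → Act Q c) : CI (Q (-1)) Q.range where
  mem := ⟨-1, rfl⟩
  q8 := by
    obtain ⟨a, b, hab⟩ := exists_sq (F := F)
    obtain ⟨i, j, h3, h4, h5⟩ := exists_q8 hab
    exact ⟨Q i, ⟨_, rfl⟩, Q j, ⟨_, rfl⟩, by rw [← map_mul, h3], by rw [← map_mul, h4],
      by rw [← map_mul, ← map_mul, ← map_mul, h5]⟩
  norm := by
    rintro c hc _ ⟨s, rfl⟩
    obtain ⟨g, hg⟩ := hC c hc
    exact ⟨_, (hg s).symm⟩
  act := by
    classical
    have hQ := inj_of_neg h2 h1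
    have hC' : ∀ c : ↥(Subgroup.centralizer ({Q (-1)} : Set K)), Act Q (c : K) := fun c =>
      hC c (Subgroup.mem_centralizer_iff.1 c.2 _ rfl).symm
    choose gg hgg using hC'
    refine ⟨F, inferInstance, inferInstance, MonoidHom.mk' (fun c => QuotientGroup.mk (gg c)) ?_, h2, ?_⟩
    · intro c c'
      rw [← QuotientGroup.mk_mul]
      refine QuotientGroup.eq.2 ?_
      rw [← cg_trivial]
      intro s
      rw [cg_mul]
      refine cg_inv _ ?_
      apply hQ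
      rw [← hgg, cg_mul, ← hgg, ← hgg, Subgroup.coe_mul]
      group
    · intro c
      show ((gg c : GL (Fin 2) F) : GL (Fin 2) F ⧸ Subgroup.center (GL (Fin 2) F)) = 1 ↔ _
      rw [QuotientGroup.eq_one_iff, ← cg_trivial]
      constructor
      · rintro h _ ⟨s, rfl⟩
        have h3 := hgg c s
        rw [h s] at h3
        exact mul_inv_eq_iff_eq_mul.1 h3
      · intro h s
        apply hQ
        rw [← hgg, h _ ⟨s, rfl⟩, mul_inv_cancel_right]
  cap := by
    intro A hA hn hne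
    have hN : (A.comap Q).Normal := by
      constructor
      intro x hx g
      rw [Subgroup.mem_comap] at hx ⊢
      rw [map_mul, map_mul, map_inv]
      exact hn _ ⟨g, rfl⟩ _ hx
    rcases (H557.LrSL.sl_facts (odd_card h2) h2).2 _ hN with h | ⟨h, -⟩
    · obtain ⟨a, ha, ha1⟩ := (Subgroup.bot_or_exists_ne_one A).resolve_left hne
      obtain ⟨x, rfl⟩ := hA ha
      rcases h x ha with rfl | rfl
      · exact absurd (map_one Q) ha1
      · exact ha
    · exact h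

end CIHom

section Equivariant

variable {K : Type*} [Group K]

theorem ci_norm_map {t : K} {J : Subgroup K} (h : CI t J) {c : K} (hc : c * t = t * c) :
    J.map (MulAut.conj c).toMonoidHom = J := by
  apply le_antisymm
  · rintro _ ⟨g, hg, rfl⟩
    exact h.norm c hc g hg
  · intro g hg
    have hc' : c⁻¹ * t = t * c⁻¹ := by
      rw [inv_mul_eq_iff_eq_mul, ← mul_assoc, hc, mul_inv_cancel_right]
    refine ⟨c⁻¹ * g * c⁻¹⁻¹, h.norm _ hc' g hg, ?_⟩
    show c * (c⁻¹ * g * c⁻¹⁻¹) * c⁻¹ = g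
    group

/-- `CI` is invariant under conjugation -/
theorem ci_conj {t : K} {J : Subgroup K} (h : CI t J) (y : K) :
    CI (y * t * y⁻¹) (J.map (MulAut.conj y).toMonoidHom) where
  mem := ⟨t, h.mem, rfl⟩
  q8 := by
    obtain ⟨i, hi, j, hj, h1, h2, h3⟩ := h.q8
    refine ⟨y * i * y⁻¹, ⟨i, hi, rfl⟩, y * j * y⁻¹, ⟨j, hj, rfl⟩, ?_, ?_, ?_⟩
    · rw [← h1]; group
    · rw [← h2]; group
    · have : y * i * y⁻¹ * (y * j * y⁻¹) = y * (i * j) * y⁻¹ := by group
      rw [this, h3]; group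
  norm := by
    rintro c hc _ ⟨g, hg, rfl⟩
    have h1 : y⁻¹ * c * y * t = t * (y⁻¹ * c * y) := by
      calc _ = y⁻¹ * (c * (y * t * y⁻¹)) * y := by group
        _ = _ := by rw [hc]; group
    refine ⟨y⁻¹ * c * y * g * (y⁻¹ * c * y)⁻¹, h.norm _ h1 g hg, ?_⟩
    show y * (y⁻¹ * c * y * g * (y⁻¹ * c * y)⁻¹) * y⁻¹ = c * (y * g * y⁻¹) * c⁻¹
    group
  act := by
    obtain ⟨F, i1, i2, f, h2, hf⟩ := h.act
    let φ : ↥(Subgroup.centralizer ({y * t * y⁻¹} : Set K)) →* ↥(Subgroup.centralizer ({t} : Set K)) :=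
      ((MulAut.conj y⁻¹).toMonoidHom.comp (Subgroup.subtype _)).codRestrict _ (fun c => by
        rw [Subgroup.mem_centralizer_iff]
        intro z hz
        rw [Set.mem_singleton_iff] at hz
        rw [hz]
        have h1 := Subgroup.mem_centralizer_iff.1 c.2 _ rfl
        show t * (y⁻¹ * c * y⁻¹⁻¹) = y⁻¹ * c * y⁻¹⁻¹ * t
        calc _ = y⁻¹ * (y * t * y⁻¹ * c) * y := by group
          _ = _ := by rw [h1]; group)
    refine ⟨F, i1, i2, f.comp φ, h2, fun c => ?_⟩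
    rw [MonoidHom.comp_apply, hf]
    constructor
    · rintro h3 _ ⟨g, hg, rfl⟩
      have h4 : y⁻¹ * c * y⁻¹⁻¹ * g = g * (y⁻¹ * c * y⁻¹⁻¹) := h3 g hg
      show (c : K) * (y * g * y⁻¹) = y * g * y⁻¹ * c
      calc _ = y * (y⁻¹ * c * y⁻¹⁻¹ * g) * y⁻¹ := by group
        _ = _ := by rw [h4]; group
    · intro h3 g hg
      have h4 : (c : K) * (y * g * y⁻¹) = y * g * y⁻¹ * c := h3 _ ⟨g, hg, rfl⟩
      show y⁻¹ * c * y⁻¹⁻¹ * g = g * (y⁻¹ * c * y⁻¹⁻¹)
      calc _ = y⁻¹ * ((c : K) * (y * g * y⁻¹)) * y := by group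
        _ = _ := by rw [h4]; group
  cap := by
    intro A hA hn hne
    have h1 := h.cap (A.comap (MulAut.conj y).toMonoidHom) (by
      intro a ha
      obtain ⟨b, hb, e⟩ := hA ha
      have : b = a := (MulAut.conj y).injective e
      rwa [← this]) (by
      intro g hg a ha
      have h3 := hn (y * g * y⁻¹) ⟨g, hg, rfl⟩ _ ha
      show y * (g * a * g⁻¹) * y⁻¹ ∈ A
      have e : y * (g * a * g⁻¹) * y⁻¹ = y * g * y⁻¹ * (y * a * y⁻¹) * (y * g * y⁻¹)⁻¹ := by group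
      rw [e]
      exact h3) (by
      intro hb
      apply hne
      rw [Subgroup.eq_bot_iff_forall] at hb ⊢
      intro a ha
      have h3 := hb (y⁻¹ * a * y) (by
        show y * (y⁻¹ * a * y) * y⁻¹ ∈ A
        have e : y * (y⁻¹ * a * y) * y⁻¹ = a := by group
        rwa [e])
      calc a = y * (y⁻¹ * a * y) * y⁻¹ := by group
        _ = 1 := by rw [h3]; group)
    exact h1

/-- the equivariant function -/
def Jof (t₀ : K) (J₀ : Subgroup K) (t : K) : Subgroup K :=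
  ⨆ g : {g : K // g * t₀ * g⁻¹ = t}, J₀.map (MulAut.conj g.1).toMonoidHom

variable {t₀ : K} {J₀ : Subgroup K}

theorem Jof_eq (h : CI t₀ J₀) {t g : K} (hg : g * t₀ * g⁻¹ = t) :
    Jof t₀ J₀ t = J₀.map (MulAut.conj g).toMonoidHom := by
  apply le_antisymm
  · refine iSup_le fun ⟨g', hg'⟩ => ?_
    have hc : (g⁻¹ * g') * t₀ = t₀ * (g⁻¹ * g') := by
      have h1 : g' * t₀ * g'⁻¹ = g * t₀ * g⁻¹ := by rw [hg, hg']
      calc _ = g⁻¹ * (g' * t₀ * g'⁻¹) * g' := by group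
        _ = _ := by rw [h1]; group
    show J₀.map (MulAut.conj g').toMonoidHom ≤ _
    have h1 : (MulAut.conj g').toMonoidHom = (MulAut.conj g).toMonoidHom.comp (MulAut.conj (g⁻¹ * g')).toMonoidHom := by
      ext x
      show g' * x * g'⁻¹ = g * (g⁻¹ * g' * x * (g⁻¹ * g')⁻¹) * g⁻¹
      group
    rw [h1, ← Subgroup.map_map, ci_norm_map h hc]
  · exact le_iSup (fun g : {g : K // g * t₀ * g⁻¹ = t} => J₀.map (MulAut.conj g.1).toMonoidHom) ⟨g, hg⟩

theorem Jof_self (h : CI t₀ J₀) : Jof t₀ J₀ t₀ = J₀ := by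
  rw [Jof_eq h (g := 1) (by group)]
  ext x
  constructor
  · rintro ⟨y, hy, rfl⟩
    have : (MulAut.conj (1 : K)).toMonoidHom y = y := by
      show 1 * y * 1⁻¹ = y
      group
    rwa [this]
  · intro hx
    refine ⟨x, hx, ?_⟩
    show 1 * x * 1⁻¹ = x
    group

theorem ci_Jof (h : CI t₀ J₀) {t : K} (ht : IsConj t₀ t) : CI t (Jof t₀ J₀ t) := by
  obtain ⟨g, hg⟩ := isConj_iff.1 ht
  rw [Jof_eq h hg, ← hg]
  exact ci_conj h g

theorem Jof_conj (h : CI t₀ J₀) (y t g : K) : y * g * y⁻¹ ∈ Jof t₀ J₀ (y * t * y⁻¹) ↔ g ∈ Jof t₀ J₀ t := by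
  by_cases ht : ∃ x, x * t₀ * x⁻¹ = t
  · obtain ⟨x, hx⟩ := ht
    have hy : (y * x) * t₀ * (y * x)⁻¹ = y * t * y⁻¹ := by rw [← hx]; group
    rw [Jof_eq h hx, Jof_eq h hy]
    constructor
    · rintro ⟨j, hj, e⟩
      refine ⟨j, hj, ?_⟩
      have e' : y * x * j * (y * x)⁻¹ = y * g * y⁻¹ := e
      show x * j * x⁻¹ = g
      calc _ = y⁻¹ * (y * x * j * (y * x)⁻¹) * y := by group
        _ = _ := by rw [e']; group
    · rintro ⟨j, hj, e⟩
      refine ⟨j, hj, ?_⟩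
      have e' : x * j * x⁻¹ = g := e
      show y * x * j * (y * x)⁻¹ = y * g * y⁻¹
      rw [← e']; group
  · have h1 : Jof t₀ J₀ t = ⊥ := by
      rw [eq_bot_iff]
      exact iSup_le fun ⟨x, hx⟩ => (ht ⟨x, hx⟩).elim
    have h2 : Jof t₀ J₀ (y * t * y⁻¹) = ⊥ := by
      rw [eq_bot_iff]
      refine iSup_le fun ⟨x, hx⟩ => (ht ⟨y⁻¹ * x, ?_⟩).elim
      calc _ = y⁻¹ * (x * t₀ * x⁻¹) * y := by group
        _ = t := by rw [hx]; group
    rw [h1, h2, Subgroup.mem_bot, Subgroup.mem_bot]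
    constructor
    · intro h3
      calc g = y⁻¹ * (y * g * y⁻¹) * y := by group
        _ = 1 := by rw [h3]; group
    · rintro rfl
      group

/-- **the equivariant function `J`** -/
theorem exists_J (h : CI t₀ J₀) : ∃ J : K → Subgroup K, J t₀ = J₀ ∧ (∀ t, IsConj t₀ t → CI t (J t)) ∧
    ∀ y t g : K, y * g * y⁻¹ ∈ J (y * t * y⁻¹) ↔ g ∈ J t :=
  ⟨Jof t₀ J₀, Jof_self h, fun _ ht => ci_Jof h ht, Jof_conj h⟩

end Equivariant

end Cfsg.Agent.H392.KKL
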