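import Cfsg.Agent.H392.KKL.Hom
import Cfsg.Agent.H557.LrRho
import Cfsg.Agent.H557.Toral

/-!
helper392 (S4546, X2a): classical involutions of `D.group K`.

* `act_rp` : a representative mapping the fundamental root `i` to `±` itself acts through `GL₂(K)` on `phi i`;
* `act_cent` : the centralizer of the sign elements `Ss` acts through `GL₂(K)`;
* `ci_rho` : `CI (zS [i0]) (phi i0).range` from the data of the highest root.
-/

set_option autoImplicit false
set_option linter.unusedSectionVars false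

namespace Cfsg.Agent.H392.KKL

open CoxeterSystem
open Cfsg Cfsg.Lie Cfsg.Lie.ChevalleyDatum
open Cfsg.Agent.ChevalleyStructure Cfsg.Agent.ChevalleyStructure.Elts Cfsg.Agent.ChevalleyStructure.CoxeterGeom
  Cfsg.Agent.ChevalleyStructure.RootVec Cfsg.Agent.ChevalleyStructure.RootVecTab
  Cfsg.Agent.ChevalleyStructure.CoxeterGeomTypes
open Cfsg.Agent.ChevalleyStructure.SL2Hom (up lo mem_closure_SL2)
open Cfsg.Agent.Tits.Roots Cfsg.Agent.Nodes.Reps Cfsg.Agent.Nodes.BNOf Cfsg.Agent.Nodes.RGDChev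
  Cfsg.Agent.Nodes.Bruhat Cfsg.Agent.Nodes.RGDLib
open Cfsg.Agent.OddHalf.LongSL Cfsg.Agent.OddHalf.LongSL.Chev
open Cfsg.Agent.KFacts.RgdChevCoord (TT XX xc coe_xc coords)
open Cfsg.Agent.GenExc Cfsg.Agent.GenExc.Chev
open Cfsg.Agent.H557.LrTor Cfsg.Agent.H557.LrOrb Cfsg.Agent.H557.LrIso Cfsg.Agent.H557.LrChev Cfsg.Agent.H557.LrRho
open Cfsg.Agent.H557.Toral (rp_act)
open Cfsg.Agent.H613.KKL (CI)
open scoped MatrixGroups

section

variable {D : ChevalleyDatum} {l : ℕ} {M : CoxeterMatrix (Fin l)} (hp : IsType D l M) {K : Type} [Field K]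

theorem xc_sr (i : Fin l) (r : K) : xc hp (sr i) r = phi hp K i (up r) := by
  have h0 := RootVec.simple_lt hp.checked (lt_rank hp i)
  apply Subtype.ext
  rw [← vec_simple hp i, coe_xc hp h0, phi_up]

theorem xc_neg_sr (i : Fin l) (r : K) : xc hp (-sr i) r = phi hp K i (lo r) := by
  have h0 := RootVec.simple_lt hp.checked (lt_rank hp i)
  apply Subtype.ext
  rw [← vec_simple hp i, ← vec_neg hp h0, coe_xc hp (neg_lt hp.checked h0), phi_lo]

/-- the matrix `[[0, 1], [-1, 0]]` -/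
def nu (K : Type) [Field K] : SL(2, K) := ⟨!![0, 1; -1, 0], by simp [Matrix.det_fin_two]⟩

theorem nu_up (r : K) : nu K * up r * (nu K)⁻¹ = lo (-r) := by
  rw [mul_inv_eq_iff_eq_mul]
  apply Subtype.ext
  show !![(0 : K), 1; -1, 0] * !![1, r; 0, 1] = !![1, 0; -r, 1] * !![0, 1; -1, 0]
  ext i j; fin_cases i <;> fin_cases j <;> simp

theorem nu_lo (r : K) : nu K * lo r * (nu K)⁻¹ = up (-r) := by
  rw [mul_inv_eq_iff_eq_mul]
  apply Subtype.ext
  show !![(0 : K), 1; -1, 0] * !![1, 0; r, 1] = !![1, -r; 0, 1] * !![0, 1; -1, 0]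
  ext i j; fin_cases i <;> fin_cases j <;> simp

variable {W : Type*} [Group W] (cs : CoxeterSystem M W) [Finite K] (p : ℕ) [Fact p.Prime] [CharP K p]

/-- a representative mapping `sr i` to `± sr i` acts through `GL₂(K)` -/
theorem act_rp {i : Fin l} (hQ : Function.Injective (phi hp K i)) {w : W} {k : ↥(D.group K)}
    (hk : Rp cs (rgd (K := K) hp cs p).nsys w k)
    (hw : rep cs hp.isCartan w (sr i) = sr i ∨ rep cs hp.isCartan w (sr i) = -sr i) : Act (phi hp K i) k := by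
  have hr := isRoot_sr cs hp.isCartan i
  obtain ⟨a, ha, e1⟩ := rp_act (coords hp cs p) (rgd (K := K) hp cs p).nsys hk hr
  obtain ⟨b, hb, e2⟩ := rp_act (coords hp cs p) (rgd (K := K) hp cs p).nsys hk hr.neg
  rcases hw with hw | hw
  · refine scal_act hQ ha hb (fun r => ?_) fun r => ?_
    · have := e1 r
      rwa [hw, xc_sr, xc_sr] at this
    · have := e2 r
      rwa [map_neg, hw, xc_neg_sr, xc_neg_sr] at this
  · have h1 : ∀ r, k * phi hp K i (up r) * k⁻¹ = phi hp K i (lo (a * r)) := fun r => by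
      have := e1 r
      rwa [hw, xc_sr, xc_neg_sr] at this
    have h2 : ∀ r, k * phi hp K i (lo r) * k⁻¹ = phi hp K i (up (b * r)) := fun r => by
      have := e2 r
      rwa [map_neg, hw, _root_.neg_neg, xc_neg_sr, xc_sr] at this
    have h3 : Act (phi hp K i) (phi hp K i (nu K) * k) := by
      refine scal_act hQ (neg_ne_zero.2 ha) (neg_ne_zero.2 hb) (fun r => ?_) fun r => ?_
      · have e : phi hp K i (nu K) * k * phi hp K i (up r) * (phi hp K i (nu K) * k)⁻¹ =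
            phi hp K i (nu K) * (k * phi hp K i (up r) * k⁻¹) * (phi hp K i (nu K))⁻¹ := by group
        rw [e, h1, ← map_inv, ← map_mul, ← map_mul, nu_lo, neg_mul]
      · have e : phi hp K i (nu K) * k * phi hp K i (lo r) * (phi hp K i (nu K) * k)⁻¹ =
            phi hp K i (nu K) * (k * phi hp K i (lo r) * k⁻¹) * (phi hp K i (nu K))⁻¹ := by group
        rw [e, h2, ← map_inv, ← map_mul, ← map_mul, nu_up, neg_mul]
    have h4 := Act.mul _ (Act.inv _ (act_range (phi hp K i) (nu K))) h3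
    rwa [inv_mul_cancel_left] at h4

/-- **the centralizer of sign elements acts through `GL₂(K)`** on the rank one group of a root `a = w₀ (sr i)` -/
theorem act_cent {i : Fin l} (hQ : Function.Injective (phi hp K i)) (h2 : (2 : K) ≠ 0) {w₀ : W}
    {k₀ : ↥(D.group K)} (hk₀ : Rp cs (rgd (K := K) hp cs p).nsys w₀ k₀) (Ss : List (List (Fin l)))
    (hE : ∀ x ∈ Ev D l Ss, x = rep cs hp.isCartan w₀ (sr i) ∨ x = -rep cs hp.isCartan w₀ (sr i) ∨
      ∀ u ∈ XX D l K x, ∀ v ∈ AA (XX D l K) (rep cs hp.isCartan w₀ (sr i)), u * v = v * u)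
    (hst : ∀ (w : W) (k : ↥(D.group K)), Rp cs (rgd (K := K) hp cs p).nsys w k →
      k ∈ Subgroup.centralizer {y | ∃ S ∈ Ss, y = zS hp K S} →
      rep cs hp.isCartan w (rep cs hp.isCartan w₀ (sr i)) = rep cs hp.isCartan w₀ (sr i) ∨
      rep cs hp.isCartan w (rep cs hp.isCartan w₀ (sr i)) = -rep cs hp.isCartan w₀ (sr i))
    {c : ↥(D.group K)} (hc : c ∈ Subgroup.centralizer {y | ∃ S ∈ Ss, y = zS hp K S}) :
    Act (phi hp K i) (k₀⁻¹ * c * k₀) := by
  have hW : Finite W := finite_W hp cs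
  have R := rgd (K := K) hp cs p
  have hEv := Chev.evenSet (K := K) hp cs h2 Ss
  have hr := isRoot_sr cs hp.isCartan i
  have hS : {y | ∃ S ∈ Ss, y = zS hp K S} ⊆ (TT D K : Set ↥(D.group K)) := by
    rintro _ ⟨T, -, rfl⟩
    exact zS_mem_T hp K T
  have hAA : AA (XX D l K) (rep cs hp.isCartan w₀ (sr i)) = (phi hp K i).range.map (MulAut.conj k₀).toMonoidHom := by
    rw [AA_conj (rgd (K := K) hp cs p) hk₀ hr, range_phi]
  obtain ⟨u, hu, w, k, hk, hkS, v, hv, rfl⟩ := Cfsg.Agent.Nodes.NormalForm.mem_centralizer (rgd (K := K) hp cs p)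
    hS (by rw [KFacts.RgdRigid.GG_eq_top (G1_eq_top hp cs)]; trivial) hc
  have h1 : RGD.Sup (fun x => XX D l K x ⊓ Subgroup.centralizer {y | ∃ S ∈ Ss, y = zS hp K S})
      (RGD.Pos cs hp.isCartan) ≤ (actG (phi hp K i)).comap (MulAut.conj k₀⁻¹).toMonoidHom := by
    refine RGD.Sup_le fun x hx u hu => ?_
    show Act (phi hp K i) (k₀⁻¹ * u * k₀⁻¹⁻¹)
    rw [inv_inv]
    have hAct : ∀ z ∈ AA (XX D l K) (rep cs hp.isCartan w₀ (sr i)), Act (phi hp K i) (k₀⁻¹ * z * k₀) := by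
      intro z hz
      rw [hAA] at hz
      obtain ⟨_, ⟨s, rfl⟩, rfl⟩ := hz
      have e : k₀⁻¹ * (MulAut.conj k₀).toMonoidHom (phi hp K i s) * k₀ = phi hp K i s := by
        show k₀⁻¹ * (k₀ * phi hp K i s * k₀⁻¹) * k₀ = _
        group
      rw [e]
      exact act_range _ s
    by_cases hxE : x ∈ Ev D l Ss
    · rcases hE x hxE with rfl | rfl | hcom
      · exact hAct _ ((le_sup_left : XX D l K _ ≤ AA (XX D l K) _) hu.1)
      · exact hAct _ ((le_sup_right : XX D l K (-_) ≤ AA (XX D l K) _) hu.1)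
      · refine act_of_comm _ fun s => ?_
        have h3 := hcom u hu.1 (k₀ * phi hp K i s * k₀⁻¹) (by rw [hAA]; exact ⟨_, ⟨s, rfl⟩, rfl⟩)
        calc _ = k₀⁻¹ * (u * (k₀ * phi hp K i s * k₀⁻¹)) * k₀ := by group
          _ = _ := by rw [h3]; group
    · have h4 := hEv.odd x hx.1 hxE
      have h3 : u ∈ XX D l K x ⊓ Subgroup.centralizer {y | ∃ S ∈ Ss, y = zS hp K S} := hu
      rw [h4, Subgroup.mem_bot] at h3
      rw [h3]
      have e : k₀⁻¹ * 1 * k₀ = 1 := by group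
      rw [e]
      exact act_one _
  have h5 : Act (phi hp K i) (k₀⁻¹ * k * k₀) := by
    have hk' : Rp cs (rgd (K := K) hp cs p).nsys (w₀⁻¹ * w * w₀) (k₀⁻¹ * k * k₀) := (hk₀.inv.mul hk).mul hk₀
    refine act_rp hp cs p hQ hk' ?_
    rw [rep_mul_apply, rep_mul_apply]
    rcases hst w k hk hkS with h6 | h6 <;> rw [h6]
    · left
      rw [← rep_mul_apply, inv_mul_cancel, map_one, Module.End.one_apply]
    · right
      rw [map_neg, ← rep_mul_apply, inv_mul_cancel, map_one, Module.End.one_apply]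
  have h6 : Act (phi hp K i) (k₀⁻¹ * u * k₀) := by
    have := h1 hu
    change Act (phi hp K i) (k₀⁻¹ * u * k₀⁻¹⁻¹) at this
    rwa [inv_inv] at this
  have h7 : Act (phi hp K i) (k₀⁻¹ * v * k₀) := by
    have := h1 hv
    change Act (phi hp K i) (k₀⁻¹ * v * k₀⁻¹⁻¹) at this
    rwa [inv_inv] at this
  have e : k₀⁻¹ * (u * k * v) * k₀ = (k₀⁻¹ * u * k₀) * (k₀⁻¹ * k * k₀) * (k₀⁻¹ * v * k₀) := by group
  rw [e]
  exact Act.mul _ (Act.mul _ h6 h5) h7

/-- isolated roots: the hypotheses of `act_cent` -/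
theorem stab_of_iso (h2 : (2 : K) ≠ 0) (Ss : List (List (Fin l))) {a : Fin l → ℤ}
    (ha : Cfsg.Agent.H557.LrIso.Iso cs hp.isCartan (Ev D l Ss) a) (w : W) (k : ↥(D.group K))
    (hk : Rp cs (rgd (K := K) hp cs p).nsys w k)
    (hkS : k ∈ Subgroup.centralizer {y | ∃ S ∈ Ss, y = zS hp K S}) :
    rep cs hp.isCartan w a = a ∨ rep cs hp.isCartan w a = -a := by
  have hW : Finite W := finite_W hp cs
  have hE := Chev.evenSet (K := K) hp cs h2 Ss
  rw [← ha]
  obtain ⟨h4, h5⟩ := (ha a).2 (Or.inl rfl)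
  refine ⟨hE.act (rgd (K := K) hp cs p) hk hkS h4, fun h6 => h5 ?_⟩
  have h7 := NI.act (rgd (K := K) hp cs p) hE hk.inv (inv_mem hkS) h6
  rwa [rep_inv_apply] at h7

theorem comm_of_iso (h2 : (2 : K) ≠ 0) (Ss : List (List (Fin l))) {a : Fin l → ℤ}
    (ha : Cfsg.Agent.H557.LrIso.Iso cs hp.isCartan (Ev D l Ss) a) : ∀ x ∈ Ev D l Ss, x = a ∨ x = -a ∨
      ∀ u ∈ XX D l K x, ∀ v ∈ AA (XX D l K) a, u * v = v * u := by
  intro x hx
  by_cases hN : x ∈ NI cs hp.isCartan (Ev D l Ss)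
  · exact Or.inr (Or.inr (comm_AA (commOK hp cs) (Chev.evenSet (K := K) hp cs h2 Ss) ha hN))
  · rcases (ha x).1 ⟨hx, hN⟩ with h | h
    · exact Or.inl h
    · exact Or.inr (Or.inl h)

/-- `zS S ≠ 1` if there is an odd root -/
theorem zS_ne_one (h2 : (2 : K) ≠ 0) {S : List (Fin l)} (h : ∃ r < D.nroots, evB D S r = false) : zS hp K S ≠ 1 := by
  obtain ⟨r, hr, h⟩ := h
  intro h1
  have h3 : Odd (csum D S r) := by
    rw [← Int.not_even_iff_odd]
    intro h4
    rw [(evB_iff hp S hr).2 h4] at h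
    exact absurd h (by decide)
  have h4 := conj_zS hp K S hr 1
  rw [h1, h3.neg_one_zpow, mul_one, Subgroup.coe_one, one_mul, inv_one, mul_one] at h4
  have h5 := xG_injective hp.inList hr h4
  apply h2
  linear_combination h5

end

section Rho

variable {D : ChevalleyDatum} {l m : ℕ} {M : CoxeterMatrix (Fin l)} (hp : IsType D l M) {K : Type} [Field K]
  {W : Type*} [Group W] (cs : CoxeterSystem M W) {f : Fin (m + 1) ↪ Fin l} {S Jc Js : List (Fin l)} {rho : ℕ}
  {i0 : Fin l} {ω : List (Fin l)} (H : RhoD D f S Jc Js rho i0 ω) [Fintype K] (p : ℕ) [Fact p.Prime] [CharP K p]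
  (hZ : Subgroup.center ↥(D.group K) = ⊥)

include hp cs H p hZ in
/-- **the classical involution from the data of the highest root** -/
theorem ci_rho (h2 : (2 : K) ≠ 0) (ho : ∃ r < D.nroots, evB D [i0] r = false) :
    CI (zS hp K [i0]) (phi hp K i0).range := by
  have e0 : zS hp K [i0] = phi hp K i0 (-1) := by rw [zS_cons, zS_nil, mul_one]
  have h1 : phi hp K i0 (-1) ≠ 1 := by rw [← e0]; exact zS_ne_one hp h2 ho
  have hQ : Function.Injective (phi hp K i0) := inj_of_neg h2 h1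
  rw [e0]
  refine ci_of_hom h2 (phi hp K i0) h1 fun c hc => ?_
  rw [← e0] at hc
  obtain ⟨k₀, hk₀, hz⟩ := H.exists_conj hp cs p hZ
  have ha : rep cs hp.isCartan (cs.wordProd ω) (sr i0) = vec D l rho := by rw [rep_word cs hp.isCartan, H.word]
  have hc' : k₀ * c * k₀⁻¹ ∈ Subgroup.centralizer {y | ∃ T ∈ [S], y = zS hp K T} := by
    rw [set_eq, Subgroup.mem_centralizer_iff]
    intro y hy
    rw [Set.mem_singleton_iff] at hy
    rw [hy, ← hz]
    calc _ = k₀ * (zS hp K [i0] * c) * k₀⁻¹ := by group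
      _ = _ := by rw [← hc]; group
  have h3 := act_cent hp cs p hQ h2 hk₀ [S] (by rw [ha]; exact comm_of_iso hp cs h2 [S] (H.iso hp cs))
    (by rw [ha]; exact stab_of_iso hp cs p h2 [S] (H.iso hp cs)) hc'
  have e : k₀⁻¹ * (k₀ * c * k₀⁻¹) * k₀ = c := by group
  rwa [e] at h3

end Rho

end Cfsg.Agent.H392.KKL
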